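import Groth.Agent.RegImm38.Seq
import Groth.Agent.Wt.CMSlice
import Groth.Agent.SymGr.Regular
import Mathlib.RingTheory.LocalRing.ResidueField.Ideal
import Mathlib.RingTheory.Localization.Submodule

/-!
# Quasi-regular sequences with flat quotient in flat finitely presented algebras
-/

set_option linter.style.haveILetI false

universe u

open TensorProduct Function RingTheory.Sequence

namespace Groth.Agent.RelQR38.Slice

variable {A B : Type u} [CommRing A] [CommRing B] [Algebra A B]

/-- Quasi-regularity in the quotient by an ideal of the base. -/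
theorem isQuasiRegular_quotient (p : Ideal A) {c : ℕ} (f : Fin c → B) (hq : CAlgX.IsQuasiRegular f)
    [Module.Flat A (B ⧸ Ideal.span (Set.range f))] :
    CAlgX.IsQuasiRegular fun i => Ideal.Quotient.mk (p.map (algebraMap A B)) (f i) := by
  have h := CAlg48.QRBase.isQuasiRegular_of_ringEquiv
    (Algebra.TensorProduct.quotIdealMapEquivQuotTensor B p).symm.toRingEquiv
    (CAlg48.QRBase.isQuasiRegular_baseChange f A (A ⧸ p) hq)
  refine Eq.mp (congrArg _ (funext fun i => ?_)) h
  exact (AlgEquiv.symm_apply_eq _).2 (Algebra.TensorProduct.quotIdealMapEquivQuotTensor_mk B p (f i)).symm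

/-- A quasi-regular sequence with flat quotient is fibrewise regular. -/
theorem fibrewise_regular [Algebra.FiniteType A B] (Q : Ideal B) [Q.IsPrime] (rs : List B)
    (hq : CAlgX.IsQuasiRegular rs.get) (hfl : Module.Flat A (B ⧸ Ideal.ofList rs))
    (hQ : Ideal.ofList rs ≤ Q) :
    ∀ (l₁ : List B) (h : B) (l₂ : List B), rs = l₁ ++ h :: l₂ → ∀ m : B,
      h * m ∈ (Q.comap (algebraMap A B)).map (algebraMap A B) ⊔ Ideal.ofList l₁ →
        ∃ s ∉ Q, s * m ∈ (Q.comap (algebraMap A B)).map (algebraMap A B) ⊔ Ideal.ofList l₁ := by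
  intro l₁ h l₂ he m hm
  classical
  set p := Q.comap (algebraMap A B) with hp
  let I := p.map (algebraMap A B)
  let O := Localization.AtPrime Q
  let D := O ⧸ I.map (algebraMap B O)
  let ψ : B →+* D := (Ideal.Quotient.mk (I.map (algebraMap B O))).comp (algebraMap B O)
  have hIm : I.map (algebraMap B O) ≤ IsLocalRing.maximalIdeal O := by
    rw [← IsLocalization.AtPrime.map_eq_maximalIdeal Q O]
    exact Ideal.map_mono Ideal.map_comap_le
  haveI : Nontrivial D := Ideal.Quotient.nontrivial_iff.2
    fun e => (IsLocalRing.maximalIdeal.isMaximal O).ne_top (top_le_iff.1 (e ▸ hIm))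
  haveI : IsLocalRing D := IsLocalRing.of_surjective' _ Ideal.Quotient.mk_surjective
  haveI : IsNoetherianRing D := by
    haveI : Algebra.EssFiniteType A O := inferInstance
    haveI : Algebra.EssFiniteType A D := inferInstance
    let φ : p.ResidueField →ₐ[A] D := Ideal.ResidueField.liftₐ p (Algebra.ofId A D)
      (fun a ha => by
        rw [RingHom.mem_ker]
        show Ideal.Quotient.mk _ (algebraMap A O a) = 0
        rw [Ideal.Quotient.eq_zero_iff_mem, IsScalarTower.algebraMap_apply A B O]
        exact Ideal.mem_map_of_mem _ (Ideal.mem_map_of_mem _ ha))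
      (fun a ha => by
        show IsUnit (Ideal.Quotient.mk _ (algebraMap A O a))
        rw [IsScalarTower.algebraMap_apply A B O]
        exact (IsLocalization.map_units O (⟨algebraMap A B a, ha⟩ : Q.primeCompl)).map _)
    letI : Algebra p.ResidueField D := φ.toRingHom.toAlgebra
    haveI : IsScalarTower A p.ResidueField D := IsScalarTower.of_algebraMap_eq fun a => (φ.commutes a).symm
    haveI : Algebra.EssFiniteType p.ResidueField D := Algebra.EssFiniteType.of_comp A _ _
    exact Algebra.EssFiniteType.isNoetherianRing p.ResidueField D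
  haveI : Module.Flat A (B ⧸ Ideal.span (Set.range rs.get)) := by
    rw [Set.range_list_get]
    exact hfl
  have hqE := isQuasiRegular_quotient p rs.get hq
  letI : Algebra (B ⧸ I) D := (Ideal.quotientMap _ (algebraMap B O) Ideal.le_comap_map).toAlgebra
  haveI : IsLocalization (Algebra.algebraMapSubmonoid (B ⧸ I) Q.primeCompl) D :=
    IsLocalization.of_surjective (M := Q.primeCompl) (S := O) (R' := B ⧸ I) (S' := D)
      (Ideal.Quotient.mk _) Ideal.Quotient.mk_surjective (Ideal.Quotient.mk _)
      Ideal.Quotient.mk_surjective rfl (by rw [Ideal.mk_ker, Ideal.mk_ker])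
  haveI : Module.Flat (B ⧸ I) D := IsLocalization.flat _ (Algebra.algebraMapSubmonoid (B ⧸ I) Q.primeCompl)
  have hqD : CAlgX.IsQuasiRegular fun i => ψ (rs.get i) :=
    CAlg48.QRBase.isQuasiRegular_of_flat (C := D) (f := fun i => Ideal.Quotient.mk I (rs.get i)) hqE
  have hjac : ∀ i, ψ (rs.get i) ∈ Ring.jacobson D := fun i => by
    rw [← Ideal.jacobson_bot, IsLocalRing.jacobson_eq_maximalIdeal ⊥ bot_ne_top, IsLocalRing.mem_maximalIdeal]
    intro hu
    have h1 : algebraMap B O (rs.get i) ∈ IsLocalRing.maximalIdeal O := by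
      rw [← IsLocalization.AtPrime.map_eq_maximalIdeal Q O]
      exact Ideal.mem_map_of_mem _ (hQ (Ideal.subset_span (rs.get_mem i)))
    obtain ⟨v, hv⟩ := Ideal.Quotient.mk_surjective (↑hu.unit⁻¹ : D)
    have h2 : Ideal.Quotient.mk (I.map (algebraMap B O)) (algebraMap B O (rs.get i) * v) = 1 := by
      rw [map_mul, hv]
      exact hu.mul_val_inv
    rw [← map_one (Ideal.Quotient.mk _), Ideal.Quotient.eq] at h2
    refine (IsLocalRing.maximalIdeal.isMaximal O).ne_top ((Ideal.eq_top_iff_one _).2 ?_)
    simpa using sub_mem (Ideal.mul_mem_right v _ h1) (hIm h2)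
  have hwr : IsWeaklyRegular D (rs.map ψ) := by
    have := SymGr.Regular.isWeaklyRegular_of_isQuasiRegular _ _ hjac hqD
    rwa [show (List.ofFn fun i => ψ (rs.get i)) = rs.map ψ from by
      rw [show (fun i => ψ (rs.get i)) = ψ ∘ rs.get from rfl, ← List.map_ofFn, List.ofFn_get]] at this
  rw [he, List.map_append, List.map_cons] at hwr
  have hk := hwr.regular_mod_prev (l₁.map ψ).length (by simp)
  have hm' : ψ h * ψ m ∈ Ideal.ofList (l₁.map ψ) := by
    have h1 := Ideal.mem_map_of_mem ψ hm
    rw [map_mul, Ideal.map_sup, show (p.map (algebraMap A B)).map ψ = ⊥ from by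
      rw [← Ideal.map_map, Ideal.map_quotient_self], bot_sup_eq, Ideal.map_ofList] at h1
    exact h1
  have hm'' : ψ m ∈ (Ideal.ofList l₁).map ψ := by
    have h0 := hk.right_eq_zero_of_smul (x := Submodule.Quotient.mk (ψ m)) (by
      rw [← Submodule.Quotient.mk_smul, Submodule.Quotient.mk_eq_zero, smul_eq_mul, smul_eq_mul,
        Ideal.mul_top, List.take_left, List.getElem_append_right le_rfl]
      simpa using hm')
    rw [Submodule.Quotient.mk_eq_zero, smul_eq_mul, Ideal.mul_top, List.take_left] at h0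
    rwa [Ideal.map_ofList]
  rw [← Ideal.map_map] at hm''
  obtain ⟨b, hb, hbm⟩ := (Ideal.mem_map_iff_of_surjective _ Ideal.Quotient.mk_surjective).1 hm''
  have hbm : b - algebraMap B O m ∈ I.map (algebraMap B O) := Ideal.Quotient.eq.1 hbm
  have h3 : algebraMap B O m ∈ (I ⊔ Ideal.ofList l₁).map (algebraMap B O) := by
    rw [Ideal.map_sup, show algebraMap B O m = -(b - algebraMap B O m) + b by ring]
    exact Submodule.add_mem_sup (neg_mem hbm) hb
  obtain ⟨t, ht, htm⟩ := (IsLocalization.algebraMap_mem_map_algebraMap_iff Q.primeCompl O _ m).1 h3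
  exact ⟨t, ht, htm⟩

/-- Near `V(rs)` the sequence is weakly regular. -/
theorem exists_away [Algebra.FinitePresentation A B] (Q : PrimeSpectrum B)
    (hflat : FlatCA.FlatAt A Q.asIdeal B) (rs : List B) (hq : CAlgX.IsQuasiRegular rs.get)
    (hfl : Module.Flat A (B ⧸ Ideal.ofList rs)) (hQ : Ideal.ofList rs ≤ Q.asIdeal) :
    ∃ g₀ ∉ Q.asIdeal, ∀ g : B, g₀ ∣ g → ∀ (C : Type u) [CommRing C] [Algebra B C]
      [IsLocalization.Away g C], IsWeaklyRegular C (rs.map (algebraMap B C)) := by
  obtain ⟨g₀, hg₀, hg⟩ := Wt.CMSlice.exists_slices Q hflat rs (fibrewise_regular Q.asIdeal rs hq hfl hQ)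
  refine ⟨g₀, hg₀, fun g hd C _ _ _ => ?_⟩
  letI : Algebra A C := ((algebraMap B C).comp (algebraMap A B)).toAlgebra
  haveI : IsScalarTower A B C := IsScalarTower.of_algebraMap_eq' rfl
  exact (hg g hd C).1

end Groth.Agent.RelQR38.Slice
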