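import Groth.Agent.RelQR38.Descent
import Groth.Agent.RelQR38.Slice
import Groth.Agent.RegImm38.BaseChange
import Groth.Agent.FlatOpen.Scheme

/-!
# Relative `H₁`- and quasi-regular immersions are regular
-/

set_option linter.style.haveILetI false

universe u

open AlgebraicGeometry CategoryTheory Limits RingTheory.Sequence

namespace Groth.Agent.RelQR38.Scheme

variable {Z X S : Scheme.{u}} (f : X ⟶ S) (i : Z ⟶ X)

/-- A chart over an affine open of the base with flat quotient. -/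
theorem exists_chart [Flat (i ≫ f)] (k : RegImm.Kind) (z : Z) (hat : RegImm.IsRegularImmersionAt k i z) :
    ∃ (V : S.Opens) (_ : IsAffineOpen V) (U : X.Opens) (_ : IsAffineOpen U) (e : U ≤ f ⁻¹ᵁ V)
      (_ : i z ∈ U) (_ : IsClosedImmersion (i ∣_ U)) (rs : List Γ(X, U)), k.Seq Γ(X, U) rs ∧
        RingHom.ker (i.app U).hom = Ideal.ofList rs ∧
        ((Ideal.Quotient.mk (Ideal.ofList rs)).comp (f.appLE V U e).hom).Flat := by
  obtain ⟨⟨U, hU⟩, hz, hci, rs, hrs, hker⟩ := hat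
  haveI := hci
  obtain ⟨V, hV, hzV, -⟩ := exists_isAffineOpen_mem_and_subset (show f (i z) ∈ (⊤ : S.Opens) from trivial)
  obtain ⟨U₁, hU₁, hz₁, hle₁⟩ := exists_isAffineOpen_mem_and_subset (show i z ∈ U ⊓ f ⁻¹ᵁ V from ⟨hz, hzV⟩)
  have hUU : U₁ ≤ U := le_trans (show U₁ ≤ U ⊓ f ⁻¹ᵁ V from hle₁) inf_le_left
  have hUV : U₁ ≤ f ⁻¹ᵁ V := le_trans (show U₁ ≤ U ⊓ f ⁻¹ᵁ V from hle₁) inf_le_right
  haveI := RegImm44.isClosedImmersion_restrict_of_le i hUU
  set ρ := (X.presheaf.map (homOfLE hUU).op).hom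
  have hρ : ρ.Flat := by
    have := (𝟙 X : X ⟶ X).flat_appLE hU hU₁ (show U₁ ≤ (𝟙 X : X ⟶ X) ⁻¹ᵁ U from hUU)
    rwa [show (𝟙 X : X ⟶ X).appLE U U₁ hUU = X.presheaf.map (homOfLE hUU).op from by
      simp [Scheme.Hom.appLE]; exact Category.id_comp _] at this
  have hker₁ : RingHom.ker (i.app U₁).hom = Ideal.ofList (rs.map ρ) := by
    rw [RegImm44.ker_app_restrict i hU hU₁ hUU, hker, Ideal.map_ofList]
  refine ⟨V, hV, U₁, hU₁, hUV, hz₁, inferInstance, rs.map ρ,
    RegImm38.seq_map_flat k ρ hρ hrs (RegImm38.ofList_ne_top i hU₁ z hz₁ hker₁), hker₁, ?_⟩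
  have hY : i ⁻¹ᵁ U₁ ≤ (i ≫ f) ⁻¹ᵁ V := fun y hy => hUV hy
  have h1 := (i ≫ f).flat_appLE hV (RegImm44.isAffineOpen_preimage i hU₁) hY
  let e := (Ideal.quotEquivOfEq hker₁.symm).trans
    (RingHom.quotientKerEquivOfSurjective (RegImm44.app_surjective i hU₁))
  have he : ((Ideal.Quotient.mk (Ideal.ofList (rs.map ρ))).comp (f.appLE V U₁ hUV).hom) =
      e.symm.toRingHom.comp ((i ≫ f).appLE V (i ⁻¹ᵁ U₁) hY).hom := by
    refine RingHom.ext fun v => e.injective ?_
    rw [RingHom.comp_apply, RingHom.comp_apply]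
    refine Eq.trans ?_ (e.apply_symm_apply _).symm
    change (i.app U₁).hom ((f.appLE V U₁ hUV).hom v) = _
    rw [Scheme.Hom.app_eq_appLE, ← CommRingCat.comp_apply, Scheme.Hom.appLE_comp_appLE]
  rw [he]
  exact h1.comp (RingHom.Flat.of_bijective e.symm.bijective)

/-- EGA IV 11.3.4: the ambient morphism is flat along a relative `H₁`-regular immersion. -/
theorem flat_stalkMap [LocallyOfFinitePresentation f]
    (hi : RegImm.IsRelRegularImmersion RegImm.Kind.h1 f i) (z : Z) : (f.stalkMap (i z)).hom.Flat := by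
  haveI : Flat (i ≫ f) := hi.2
  obtain ⟨V, hV, U, hU, e, hz, hci, rs, hrs, hker, hfl⟩ := exists_chart f i RegImm.Kind.h1 z (hi.1.2 z)
  rw [FlatOpen.Scheme.stalkMap_flat_iff f hV hU e (i z) hz]
  letI := (f.appLE V U e).hom.toAlgebra
  haveI : Algebra.FinitePresentation Γ(S, V) Γ(X, U) := f.finitePresentation_appLE hV hU e
  haveI : Module.Flat Γ(S, V) (Γ(X, U) ⧸ Ideal.span (Set.range rs.get)) := by
    rw [Set.range_list_get]
    exact hfl
  refine Descent.flatAt_of_h1 Γ(S, V) Γ(X, U) rs.get hrs (AssSch.Stalk.primeOf hU (i z) hz) fun k => ?_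
  exact RegImm44.ker_le_primeIdealOf i hU z hz (hker ▸ Ideal.subset_span (rs.get_mem k))

/-- EGA IV 11.3.4: an open neighbourhood on which the ambient morphism is flat. -/
theorem exists_open_flat [LocallyOfFinitePresentation f] (hi : RegImm.IsRelRegularImmersion RegImm.Kind.h1 f i) :
    ∃ U : X.Opens, Set.range (fun z : ↥Z => i z) ⊆ (U : Set ↥X) ∧ Flat (U.ι ≫ f) := by
  let U : X.Opens := ⟨{x | (f.stalkMap x).hom.Flat}, FlatOpen.Scheme.isOpen_stalkMap_flat f⟩
  refine ⟨U, ?_, Flat.of_stalkMap _ fun x => ?_⟩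
  · rintro _ ⟨z, rfl⟩
    exact flat_stalkMap f i hi z
  · rw [AlgebraicGeometry.Scheme.Hom.stalkMap_comp]
    exact (show (f.stalkMap (U.ι x)).hom.Flat from x.2).comp
      (RingHom.Flat.of_bijective (ConcreteCategory.bijective_of_isIso (U.ι.stalkMap x)))

/-- A relative quasi-regular immersion is regular where the ambient morphism is flat. -/
theorem isRegularImmersionAt_regular [LocallyOfFinitePresentation f] [Flat (i ≫ f)] (z : Z)
    (hat : RegImm.IsRegularImmersionAt RegImm.Kind.quasi i z) (hfl : (f.stalkMap (i z)).hom.Flat) :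
    RegImm.IsRegularImmersionAt RegImm.Kind.regular i z := by
  obtain ⟨V, hV, U, hU, e, hz, hci, rs, hrs, hker, hquot⟩ := exists_chart f i RegImm.Kind.quasi z hat
  rw [FlatOpen.Scheme.stalkMap_flat_iff f hV hU e (i z) hz] at hfl
  letI := (f.appLE V U e).hom.toAlgebra
  haveI : Algebra.FinitePresentation Γ(S, V) Γ(X, U) := f.finitePresentation_appLE hV hU e
  let Q := AssSch.Stalk.primeOf hU (i z) hz
  obtain ⟨g₀, hg₀, hslice⟩ := Slice.exists_away ⟨Q, inferInstance⟩ hfl rs hrs hquot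
    (hker ▸ RegImm44.ker_le_primeIdealOf i hU z hz)
  letI : Algebra Γ(X, U) Γ(X, X.basicOpen g₀) :=
    (X.presheaf.map (homOfLE (X.basicOpen_le g₀)).op).hom.toAlgebra
  haveI : IsLocalization.Away g₀ Γ(X, X.basicOpen g₀) := hU.isLocalization_basicOpen g₀
  have hmem : i z ∈ X.basicOpen g₀ := (AssSch.Stalk.mem_basicOpen_iff hU (i z) hz g₀).2 hg₀
  haveI := hci
  have hker' : RingHom.ker (i.app (X.basicOpen g₀)).hom =
      Ideal.ofList (rs.map (algebraMap Γ(X, U) Γ(X, X.basicOpen g₀))) := by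
    rw [RegImm44.ker_app_restrict i hU (hU.basicOpen g₀) (X.basicOpen_le g₀), hker, Ideal.map_ofList]
    rfl
  refine ⟨⟨X.basicOpen g₀, hU.basicOpen g₀⟩, hmem,
    RegImm44.isClosedImmersion_restrict_of_le i (X.basicOpen_le g₀),
    rs.map (algebraMap Γ(X, U) Γ(X, X.basicOpen g₀)),
    ⟨hslice g₀ dvd_rfl Γ(X, X.basicOpen g₀), fun htop => ?_⟩, hker'⟩
  exact RegImm38.ofList_ne_top i (hU.basicOpen g₀) z hmem hker' (by simpa using htop.symm)

/-- `H₁`-regular immersions are quasi-regular. -/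
theorem isRegularImmersionAt_quasi_of_h1 (z : Z) (hat : RegImm.IsRegularImmersionAt RegImm.Kind.h1 i z) :
    RegImm.IsRegularImmersionAt RegImm.Kind.quasi i z := by
  obtain ⟨U, hz, hci, rs, hrs, hker⟩ := hat
  exact ⟨U, hz, hci, rs, RegLoc.H1Seq.isQuasiRegular rs.get hrs, hker⟩

/-- A relative `H₁`-regular immersion is a regular immersion. -/
theorem isRegularImmersion_of_h1 [LocallyOfFinitePresentation f]
    (hi : RegImm.IsRelRegularImmersion RegImm.Kind.h1 f i) :
    RegImm.IsRegularImmersion RegImm.Kind.regular i := by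
  haveI : Flat (i ≫ f) := hi.2
  exact ⟨hi.1.1, fun z => isRegularImmersionAt_regular f i z
    (isRegularImmersionAt_quasi_of_h1 i z (hi.1.2 z)) (flat_stalkMap f i hi z)⟩

/-- A relative quasi-regular immersion in a flat scheme is a regular immersion. -/
theorem isRegularImmersion_of_quasi [Flat f] [LocallyOfFinitePresentation f]
    (hi : RegImm.IsRelRegularImmersion RegImm.Kind.quasi f i) :
    RegImm.IsRegularImmersion RegImm.Kind.regular i := by
  haveI : Flat (i ≫ f) := hi.2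
  exact ⟨hi.1.1, fun z => isRegularImmersionAt_regular f i z (hi.1.2 z) (Flat.stalkMap f (i z))⟩

end Groth.Agent.RelQR38.Scheme
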