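import Groth.Agent.RelQR38.FlatCrit
import Groth.Agent.RegImm38.Seq
import Groth.Agent.RegLoc.H1Seq
import Groth.Agent.FlatOpen.FibreAPI
import Groth.Agent.FlatOpen.Descend
import Groth.Agent.SDivFib.Basic
import Mathlib.RingTheory.TensorProduct.DirectLimitFG

/-!
# Descent of `H₁`-regular sequences with flat quotient
-/

set_option linter.style.haveILetI false

universe u

open TensorProduct Function

namespace Groth.Agent.RelQR38.Descent

variable {B : Type u} [CommRing B] {c : ℕ} (f : Fin c → B) (A : Type u) [CommRing A] [Algebra A B]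
  (A' : Type u) [CommRing A'] [Algebra A A']

/-- Base change is `H₁`-regular once relations come from the trivial ones. -/
theorem isH1Regular_of_exact
    (hex : ∀ z : A' ⊗[A] (Fin c → B), ((RegImm38.dotMap f).restrictScalars A).lTensor A' z = 0 →
      z ∈ LinearMap.range (((RegImm38.relMap f).restrictScalars A).lTensor A'))
    (hinj : Injective ((((Ideal.span (Set.range f)).subtype).restrictScalars A).lTensor A')) :
    CAlgX.IsH1Regular (fun i => ((1 : A') ⊗ₜ[A] f i : A' ⊗[A] B)) := by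
  classical
  intro a ha
  let R' := A' ⊗[A] B
  let f' : Fin c → R' := fun i => 1 ⊗ₜ[A] f i
  have hpi : ∀ (x : A') (v : Fin c → B),
      TensorProduct.piRight A A A' (fun _ : Fin c => B) (x ⊗ₜ[A] v) = fun i => x ⊗ₜ[A] v i := fun x v => by
    ext i
    simp
  obtain ⟨z, hz⟩ : ∃ z, TensorProduct.piRight A A A' (fun _ : Fin c => B) z = a :=
    (TensorProduct.piRight A A A' (fun _ : Fin c => B)).surjective a
  have hz0 : ((RegImm38.dotMap f).restrictScalars A).lTensor A' z = 0 := by
    apply hinj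
    rw [map_zero, ← ha, ← hz]
    clear hz ha
    induction z with
    | zero => simp
    | tmul x v =>
      simp only [LinearMap.lTensor_tmul, LinearMap.coe_restrictScalars, Submodule.subtype_apply,
        RegImm38.dotMap_apply, hpi, Algebra.TensorProduct.tmul_mul_tmul, mul_one, tmul_sum]
    | add x y hx hy => simp only [map_add, hx, hy, Pi.add_apply, add_mul, Finset.sum_add_distrib]
  obtain ⟨w, rfl⟩ := hex z hz0
  rw [← hz]
  clear hz hz0 ha
  induction w with
  | zero => simp
  | tmul x v =>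
    rw [LinearMap.lTensor_tmul, LinearMap.coe_restrictScalars, hpi]
    have e : (fun i => (x ⊗ₜ[A] RegImm38.relMap f v i : R')) =
        ∑ p : Fin c × Fin c, (x ⊗ₜ[A] v p : R') • (Pi.single p.1 (f' p.2) - Pi.single p.2 (f' p.1) : Fin c → R') := by
      ext i
      simp only [RegImm38.relMap, Fintype.linearCombination_apply, Finset.sum_apply, Pi.smul_apply, Pi.sub_apply,
        tmul_sum, smul_eq_mul]
      refine Finset.sum_congr rfl fun p _ => ?_
      rw [mul_sub, tmul_sub, mul_sub]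
      have key : ∀ b b' : B, (x ⊗ₜ[A] (b * b') : R') = (x ⊗ₜ[A] b : R') * ((1 : A') ⊗ₜ[A] b' : R') := fun b b' =>
        ((Algebra.TensorProduct.tmul_mul_tmul x 1 b b').trans (by rw [mul_one])).symm
      congr 1 <;> simp only [Pi.single_apply] <;> split_ifs
      all_goals first
        | exact key _ _
        | rw [mul_zero, mul_zero, tmul_zero]
    rw [e]
    exact Submodule.sum_mem _ fun p _ => Submodule.smul_mem _ _ (Submodule.subset_span ⟨p.1, p.2, rfl⟩)
  | add x y hx hy =>
    rw [map_add, map_add]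
    exact Submodule.add_mem _ hx hy

/-- A relation of the base change that is a combination of trivial ones. -/
theorem mem_range_of_mem_span (z : A' ⊗[A] (Fin c → B))
    (hz : TensorProduct.piRight A A A' (fun _ : Fin c => B) z ∈
      Submodule.span (A' ⊗[A] B) {v : Fin c → A' ⊗[A] B | ∃ i j : Fin c,
        v = Pi.single i ((1 : A') ⊗ₜ[A] f j) - Pi.single j ((1 : A') ⊗ₜ[A] f i)}) :
    z ∈ LinearMap.range (((RegImm38.relMap f).restrictScalars A).lTensor A') := by
  classical
  let π := TensorProduct.piRight A A A' (fun _ : Fin c => B)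
  let L := ((RegImm38.relMap f).restrictScalars A).lTensor A'
  suffices h : ∀ a ∈ Submodule.span (A' ⊗[A] B) {v : Fin c → A' ⊗[A] B | ∃ i j : Fin c,
      v = Pi.single i ((1 : A') ⊗ₜ[A] f j) - Pi.single j ((1 : A') ⊗ₜ[A] f i)},
      ∀ s : A' ⊗[A] B, ∃ w, π (L w) = s • a by
    obtain ⟨w, hw⟩ := h _ hz 1
    rw [one_smul] at hw
    exact ⟨w, π.injective hw⟩
  intro a ha
  induction ha using Submodule.span_induction with
  | mem a ha =>
    obtain ⟨i, j, rfl⟩ := ha
    intro s
    induction s with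
    | zero => exact ⟨0, by simp⟩
    | tmul x b =>
      refine ⟨x ⊗ₜ[A] (Pi.single (i, j) b : Fin c × Fin c → B), ?_⟩
      simp only [L, LinearMap.lTensor_tmul, LinearMap.coe_restrictScalars, RegImm38.relMap,
        Fintype.linearCombination_apply_single]
      ext k
      simp only [π, TensorProduct.piRight_apply, TensorProduct.piRightHom_tmul, Pi.smul_apply, Pi.sub_apply,
        smul_eq_mul, mul_sub, tmul_sub]
      congr 1 <;> simp only [Pi.single_apply] <;> split_ifs
      all_goals simp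
    | add s t hs ht =>
      obtain ⟨w, hw⟩ := hs
      obtain ⟨w', hw'⟩ := ht
      exact ⟨w + w', by rw [map_add, map_add, hw, hw', add_smul]⟩
  | zero => exact fun s => ⟨0, by simp⟩
  | add a b _ _ ha hb =>
    intro s
    obtain ⟨w, hw⟩ := ha s
    obtain ⟨w', hw'⟩ := hb s
    exact ⟨w + w', by rw [map_add, map_add, hw, hw', smul_add]⟩
  | smul r a _ ha =>
    intro s
    obtain ⟨w, hw⟩ := ha (s * r)
    exact ⟨w, by rw [hw, mul_smul]⟩

variable (R : Type u) [CommRing R] [Algebra A R]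

/-- `H₁`-regularity over `R` holds at a finitely generated stage. -/
theorem exists_stage_h1 [IsNoetherianRing B] [Module.Flat A (B ⧸ Ideal.span (Set.range f))]
    (hf : CAlgX.IsH1Regular fun i => ((1 : R) ⊗ₜ[A] f i : R ⊗[A] B)) :
    ∃ A₂ : Subalgebra A R, A₂.FG ∧ CAlgX.IsH1Regular (fun i => ((1 : A₂) ⊗ₜ[A] f i : A₂ ⊗[A] B)) := by
  classical
  let J := Ideal.span (Set.range f)
  let d := RegImm38.dotMap f
  let N := (Fin c → B) ⧸ LinearMap.range (RegImm38.relMap f)
  let q : (Fin c → B) →ₗ[A] N := (Submodule.mkQ _).restrictScalars A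
  have hexq : Exact ((RegImm38.relMap f).restrictScalars A) q :=
    fun x => (LinearMap.exact_map_mkQ_range (RegImm38.relMap f)) x
  obtain ⟨T, hT⟩ := IsNoetherian.noetherian (LinearMap.ker d)
  have hexJ : ∀ (A' : Type u) [CommRing A'] [Algebra A A'],
      Injective ((J.subtype.restrictScalars A).lTensor A') := fun A' _ _ => by
    let b : B →ₗ[A] B ⧸ J := (Submodule.mkQ J).restrictScalars A
    exact LocFlat.lTensor_injective_of_flat_coker _ b (LinearMap.exact_subtype_mkQ J)
      (Submodule.mkQ_surjective J) Subtype.val_injective A'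
  have hR : ∀ v ∈ T, (1 : R) ⊗ₜ[A] q v = 0 := by
    intro v hv
    have hv' : d v = 0 := LinearMap.mem_ker.1 (hT ▸ Submodule.subset_span hv)
    let π := TensorProduct.piRight A A R (fun _ : Fin c => B)
    have hmem : ((1 : R) ⊗ₜ[A] v) ∈ LinearMap.range (((RegImm38.relMap f).restrictScalars A).lTensor R) := by
      refine mem_range_of_mem_span f A R _ (hf _ ?_)
      have h0 : ∑ i, v i * f i = 0 := by rw [← RegImm38.dotMap_apply]; exact congrArg Subtype.val hv'
      simp only [TensorProduct.piRight_apply, TensorProduct.piRightHom_tmul,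
        Algebra.TensorProduct.tmul_mul_tmul, mul_one, ← tmul_sum, h0, tmul_zero]
    obtain ⟨w, hw⟩ := hmem
    have := congrArg (q.lTensor R) hw
    rw [← LinearMap.comp_apply, ← LinearMap.lTensor_comp, LinearMap.lTensor_tmul] at this
    rw [← this, hexq.linearMap_comp_eq_zero, LinearMap.lTensor_zero, LinearMap.zero_apply]
  have hstage : ∀ v ∈ T, ∃ A₂ : Subalgebra A R, A₂.FG ∧ (1 : A₂) ⊗ₜ[A] q v = 0 := by
    intro v hv
    obtain ⟨A₂, hle, hfg, h⟩ := TensorProduct.Algebra.eq_of_fg_of_subtype_eq (A := (⊥ : Subalgebra A R))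
      Subalgebra.fg_bot (t := (1 : (⊥ : Subalgebra A R)) ⊗ₜ[A] q v) (t' := 0) (by
        rw [map_zero, LinearMap.rTensor_tmul]
        exact hR v hv)
    rw [map_zero, LinearMap.rTensor_tmul] at h
    exact ⟨A₂, hfg, h⟩
  choose! st hstfg hst using hstage
  let A₂ := T.sup st
  refine ⟨A₂, Finset.sup_induction (p := fun S : Subalgebra A R => S.FG) Subalgebra.fg_bot
    (fun _ ha _ hb => ha.sup hb) hstfg, isH1Regular_of_exact f A A₂ ?_ (hexJ A₂)⟩
  intro z hz
  have hker : ∀ v ∈ Submodule.span B (T : Set (Fin c → B)), ∀ x : A₂, x ⊗ₜ[A] q v = 0 := by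
    intro v hv
    induction hv using Submodule.span_induction with
    | mem v hv =>
      intro x
      have h1 : ((1 : A₂) ⊗ₜ[A] q v) = 0 := by
        have := congrArg (LinearMap.rTensor N (Subalgebra.inclusion (Finset.le_sup (f := st) hv)).toLinearMap)
          (hst v hv)
        rw [map_zero, LinearMap.rTensor_tmul] at this
        exact this
      rw [show x ⊗ₜ[A] q v = x • ((1 : A₂) ⊗ₜ[A] q v) by rw [TensorProduct.smul_tmul', smul_eq_mul, mul_one],
        h1, smul_zero]
    | zero => intro x; simp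
    | add a b _ _ ha hb => intro x; simp only [map_add, tmul_add, ha, hb, add_zero]
    | smul r a _ ha =>
      intro x
      have : x ⊗ₜ[A] q (r • a) = (Module.toModuleEnd A (S := B) N r).lTensor A₂ (x ⊗ₜ[A] q a) := by
        rw [LinearMap.lTensor_tmul]
        rfl
      rw [this, ha, map_zero]
  have hexd : Exact (((LinearMap.ker d).subtype.restrictScalars A).lTensor A₂)
      ((d.restrictScalars A).lTensor A₂) :=
    lTensor_exact A₂ (fun x => (LinearMap.exact_subtype_ker_map d) x) (RegImm38.dotMap_surjective f)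
  obtain ⟨y, rfl⟩ := (hexd z).1 hz
  refine ((lTensor_exact A₂ hexq (Submodule.mkQ_surjective _)) _).1 ?_
  clear hz
  induction y with
  | zero => simp
  | tmul x v => simp only [LinearMap.lTensor_tmul]; exact hker v (by rw [hT]; exact v.2) x
  | add a b ha hb => rw [map_add, map_add, ha, hb, add_zero]

/-- Flatness at points of a flat `H₁`-regular complete intersection, from a Noetherian model. -/
theorem flatAt_of_model {R₁ R B₁ C : Type u} [CommRing R₁] [CommRing R] [CommRing B₁] [CommRing C]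
    [IsNoetherianRing R₁] [Algebra R₁ R] [Algebra R₁ B₁] [Algebra.FiniteType R₁ B₁] [Algebra R C]
    [Algebra B₁ C] [Algebra R₁ C] [IsScalarTower R₁ R C] [IsScalarTower R₁ B₁ C]
    [Algebra.IsPushout R₁ R B₁ C] {c : ℕ} (f : Fin c → B₁)
    [Module.Flat R₁ (B₁ ⧸ Ideal.span (Set.range f))]
    (hf : CAlgX.IsH1Regular fun i => algebraMap B₁ C (f i)) (Q : Ideal C) [Q.IsPrime]
    (hQ : ∀ i, algebraMap B₁ C (f i) ∈ Q) : FlatCA.FlatAt R Q C := by
  haveI : IsNoetherianRing B₁ := Algebra.FiniteType.isNoetherianRing R₁ B₁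
  let e : R ⊗[R₁] B₁ ≃ₐ[R] C := Algebra.IsPushout.equiv R₁ R B₁ C
  have he : ∀ b : B₁, e (1 ⊗ₜ[R₁] b) = algebraMap B₁ C b := fun b =>
    (Algebra.IsPushout.equiv_tmul R₁ R B₁ C 1 b).trans (by rw [map_one, one_mul])
  have hf' : CAlgX.IsH1Regular fun i => ((1 : R) ⊗ₜ[R₁] f i : R ⊗[R₁] B₁) := by
    have := RegImm38.isH1Regular_of_ringEquiv e.symm.toRingEquiv hf
    refine Eq.mp (congrArg _ (funext fun i => ?_)) this
    exact (AlgEquiv.symm_apply_eq e).2 (he (f i)).symm
  obtain ⟨A₂, hfg, h2⟩ := exists_stage_h1 f R₁ R hf'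
  haveI : Algebra.FiniteType R₁ A₂ := (Subalgebra.fg_iff_finiteType A₂).mp hfg
  haveI : IsNoetherianRing A₂ := Algebra.FiniteType.isNoetherianRing R₁ A₂
  let B₂ := A₂ ⊗[R₁] B₁
  haveI : IsNoetherianRing B₂ := Algebra.FiniteType.isNoetherianRing A₂ B₂
  haveI : IsScalarTower A₂ R C := IsScalarTower.of_algebraMap_eq fun _ => rfl
  haveI : IsScalarTower R₁ A₂ C := IsScalarTower.of_algebraMap_eq fun a => by
    rw [IsScalarTower.algebraMap_apply R₁ R C]
    rfl
  let φ : B₂ →ₐ[A₂] C := Algebra.TensorProduct.lift (Algebra.ofId A₂ C) (IsScalarTower.toAlgHom R₁ B₁ C)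
    fun _ _ => Commute.all _ _
  letI : Algebra B₂ C := φ.toRingHom.toAlgebra
  haveI : IsScalarTower A₂ B₂ C := IsScalarTower.of_algebraMap_eq fun a => (φ.commutes a).symm
  letI : Algebra B₁ B₂ := Algebra.TensorProduct.rightAlgebra
  haveI : IsScalarTower B₁ B₂ C := IsScalarTower.of_algebraMap_eq fun b => by
    show _ = φ (1 ⊗ₜ b)
    exact ((Algebra.TensorProduct.lift_tmul _ _ _ _ _).trans (by rw [map_one, one_mul]; rfl)).symm
  haveI : IsScalarTower R₁ B₂ C := IsScalarTower.of_algebraMap_eq fun a =>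
    (IsScalarTower.algebraMap_apply R₁ A₂ C a).trans (φ.commutes (algebraMap R₁ A₂ a)).symm
  haveI : Algebra.IsPushout A₂ R B₂ C := (Algebra.IsPushout.comp_iff R₁ A₂ B₁ B₂ (T := R) (T' := C)).1 inferInstance
  haveI : Algebra.IsPushout A₂ B₂ R C := Algebra.IsPushout.symm inferInstance
  let f₂ : Fin c → B₂ := fun i => 1 ⊗ₜ f i
  let q := Q.comap (algebraMap B₂ C)
  have hJ : (Ideal.span (Set.range f)).map (Algebra.TensorProduct.includeRight (A := A₂) (R := R₁)) =
      Ideal.span (Set.range f₂) := by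
    rw [Ideal.map_span, ← Set.range_comp]
    rfl
  haveI : Module.Flat A₂ (B₂ ⧸ Ideal.span (Set.range f₂)) :=
    Module.Flat.of_linearEquiv ((Algebra.TensorProduct.tensorQuotientEquiv (R := R₁) A₂ B₁ A₂
      (Ideal.span (Set.range f))).trans (Ideal.quotientEquivAlgOfEq A₂ hJ)).symm.toLinearEquiv
  let O := Localization.AtPrime q
  haveI : IsNoetherianRing O := IsLocalization.isNoetherianRing q.primeCompl O inferInstance
  haveI hO := SDivFib.flat_localized_quotient (R := A₂) q (O := O) (Ideal.span (Set.range f₂))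
  have hspan : (Ideal.span (Set.range f₂)).map (algebraMap B₂ O) =
      Ideal.span (Set.range fun i => algebraMap B₂ O (f₂ i)) := by
    rw [Ideal.map_span, ← Set.range_comp]
    rfl
  rw [hspan] at hO
  have hne : Ideal.span (Set.range fun i => algebraMap B₂ O (f₂ i)) ≠ ⊤ := by
    refine ne_top_of_le_ne_top (IsLocalRing.maximalIdeal.isMaximal O).ne_top (Ideal.span_le.2 ?_)
    rintro _ ⟨i, rfl⟩
    rw [← IsLocalization.AtPrime.map_eq_maximalIdeal q O]
    refine Ideal.mem_map_of_mem _ (show φ (1 ⊗ₜ f i) ∈ Q from ?_)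
    rw [show φ (1 ⊗ₜ f i) = algebraMap B₁ C (f i) from
      (Algebra.TensorProduct.lift_tmul _ _ _ _ _).trans (by rw [map_one, one_mul]; rfl)]
    exact hQ i
  haveI : Module.Flat B₂ O := IsLocalization.flat O q.primeCompl
  haveI : Module.Flat A₂ O := FlatCrit.flat_of_quasiRegular _
    (CAlg48.QRBase.isQuasiRegular_of_flat (C := O) (RegLoc.H1Seq.isQuasiRegular f₂ h2)) hne
  have hq : FlatCA.FlatAt A₂ q B₂ :=
    Module.Flat.of_linearEquiv ((IsLocalizedModule.iso q.primeCompl (Algebra.linearMap B₂ O)).restrictScalars A₂)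
  exact FlatMor.FlatAtBC.flatAt_of_baseChange (R := A₂) (S := B₂) (R' := R) (S' := C) (M := B₂) (M' := C)
    (Algebra.linearMap B₂ C) (IsBaseChange.linearMap B₂ C) q Q rfl hq

/-- EGA IV 11.3.4 style: near a flat `H₁`-regular complete intersection a finitely presented algebra is flat. -/
theorem flatAt_of_h1 (R C : Type u) [CommRing R] [CommRing C] [Algebra R C] [Algebra.FinitePresentation R C]
    {c : ℕ} (g : Fin c → C) (hg : CAlgX.IsH1Regular g) [Module.Flat R (C ⧸ Ideal.span (Set.range g))]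
    (Q : Ideal C) [Q.IsPrime] (hQ : ∀ i, g i ∈ Q) : FlatCA.FlatAt R Q C := by
  classical
  obtain ⟨R₀, B₀, _, _, _, _, hR₀, _, _, hc⟩ := FlatOpen.exists_ring_model R C (Finset.univ.image g)
  choose f hf using fun i => hc (g i) (Finset.mem_image_of_mem g (Finset.mem_univ i))
  obtain rfl : (fun i => algebraMap B₀ C (f i)) = g := funext hf
  haveI : IsNoetherianRing R₀ := isNoetherianRing_of_fg hR₀
  haveI : Algebra.FinitePresentation R₀ B₀ := Algebra.FinitePresentation.of_finiteType.mp inferInstance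
  let J₀ := Ideal.span (Set.range f)
  let e : R ⊗[R₀] B₀ ≃ₐ[R] C := Algebra.IsPushout.equiv R₀ R B₀ C
  have hJ : (J₀.map (Algebra.TensorProduct.includeRight (A := R) (R := R₀))).map e.toRingEquiv.toRingHom =
      Ideal.span (Set.range fun i => algebraMap B₀ C (f i)) := by
    rw [Ideal.map_span, Ideal.map_span, ← Set.range_comp, ← Set.range_comp]
    congr 2
    funext i
    exact (Algebra.IsPushout.equiv_tmul R₀ R B₀ C 1 (f i)).trans (by rw [map_one, one_mul])
  haveI : Module.Flat R (R ⊗[R₀] (B₀ ⧸ J₀)) :=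
    Module.Flat.of_linearEquiv ((Algebra.TensorProduct.tensorQuotientEquiv (R := R₀) R B₀ R J₀).trans
      (Ideal.quotientEquivAlg _ _ e hJ.symm)).toLinearEquiv
  let G : {S : Subalgebra R₀ R // S.FG} → Type u := fun S => S.1
  let gt : ∀ i j : {S : Subalgebra R₀ R // S.FG}, i ≤ j → G i →+* G j := fun i j h =>
    (Subalgebra.inclusion h).toRingHom
  have hcolim : FlatCA.IsDirectedColimitRing G gt R := by
    refine ⟨⟨fun i j => ⟨⟨i.1 ⊔ j.1, i.2.sup j.2⟩, (le_sup_left : i.1 ≤ i.1 ⊔ j.1), (le_sup_right : j.1 ≤ i.1 ⊔ j.1)⟩⟩,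
      ⟨⟨⊥, Subalgebra.fg_bot⟩⟩, fun i => rfl, fun i j k _ _ => rfl, fun i j h => rfl,
      fun a => ⟨⟨Algebra.adjoin R₀ {a}, ⟨{a}, by simp⟩⟩, ⟨a, Algebra.self_mem_adjoin_singleton R₀ a⟩, rfl⟩,
      fun i x hx => ⟨i, le_rfl, ?_⟩⟩
    exact Subtype.ext hx
  haveI : Module.FinitePresentation B₀ (B₀ ⧸ J₀) :=
    Module.finitePresentation_of_surjective (Submodule.mkQ J₀) (Submodule.mkQ_surjective _) (by
      rw [Submodule.ker_mkQ]; exact Submodule.fg_span (Set.finite_range f))
  obtain ⟨⟨R₁, hR₁⟩, hflat⟩ := FlatOpen.exists_stage_flat (A₀ := R₀) G gt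
    (fun i j h => (Subalgebra.inclusion h).comp_algebraMap) R hcolim (B₀ := B₀) (B₀ ⧸ J₀)
  haveI : Algebra.FiniteType R₀ R₁ := (Subalgebra.fg_iff_finiteType R₁).mp hR₁
  haveI : IsNoetherianRing R₁ := Algebra.FiniteType.isNoetherianRing R₀ R₁
  haveI : Module.Flat R₁ (R₁ ⊗[R₀] (B₀ ⧸ J₀)) := hflat
  let B₁ := R₁ ⊗[R₀] B₀
  haveI : IsScalarTower R₁ R C := IsScalarTower.of_algebraMap_eq fun _ => rfl
  haveI : IsScalarTower R₀ R₁ C := IsScalarTower.of_algebraMap_eq fun a => by
    rw [IsScalarTower.algebraMap_apply R₀ R C]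
    rfl
  let φ : B₁ →ₐ[R₁] C := Algebra.TensorProduct.lift (Algebra.ofId R₁ C) (IsScalarTower.toAlgHom R₀ B₀ C)
    fun _ _ => Commute.all _ _
  letI : Algebra B₁ C := φ.toRingHom.toAlgebra
  haveI : IsScalarTower R₁ B₁ C := IsScalarTower.of_algebraMap_eq fun a => (φ.commutes a).symm
  letI : Algebra B₀ B₁ := Algebra.TensorProduct.rightAlgebra
  haveI : IsScalarTower B₀ B₁ C := IsScalarTower.of_algebraMap_eq fun b => by
    show _ = φ (1 ⊗ₜ b)
    exact ((Algebra.TensorProduct.lift_tmul _ _ _ _ _).trans (by rw [map_one, one_mul]; rfl)).symm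
  haveI : IsScalarTower R₀ B₁ C := IsScalarTower.of_algebraMap_eq fun a =>
    (IsScalarTower.algebraMap_apply R₀ R₁ C a).trans (φ.commutes (algebraMap R₀ R₁ a)).symm
  haveI : Algebra.IsPushout R₁ R B₁ C := (Algebra.IsPushout.comp_iff R₀ R₁ B₀ B₁ (T := R) (T' := C)).1 inferInstance
  have hJ₁ : J₀.map (Algebra.TensorProduct.includeRight (A := R₁) (R := R₀)) =
      (Ideal.span (Set.range fun i => ((1 : R₁) ⊗ₜ[R₀] f i)) : Ideal B₁) := by
    rw [Ideal.map_span, ← Set.range_comp]
    rfl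
  have hfl := Module.Flat.of_linearEquiv
    (Algebra.TensorProduct.tensorQuotientEquiv (R := R₀) R₁ B₀ R₁ J₀).symm.toLinearEquiv
  rw [hJ₁] at hfl
  haveI := hfl
  have hfC : ∀ i, algebraMap B₁ C ((1 : R₁) ⊗ₜ[R₀] f i) = algebraMap B₀ C (f i) := fun i =>
    (IsScalarTower.algebraMap_apply B₀ B₁ C (f i)).symm
  exact flatAt_of_model (R₁ := R₁) (B₁ := B₁) (fun i => (1 : R₁) ⊗ₜ[R₀] f i)
    (by simp only [hfC]; exact hg) Q (by simp only [hfC]; exact hQ)

end Groth.Agent.RelQR38.Descent
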