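import Groth.Agent.RegImm38.BaseChange
import Groth.Agent.RegImm38.Spread
import Groth.Agent.CAlgLib.FlatCrit

/-!
# Flatness along a relative quasi-regular immersion
-/

set_option linter.style.haveILetI false

universe u

open TensorProduct Function AlgebraicGeometry CategoryTheory

namespace Groth.Agent.RelQR38.FlatCrit

/-- Over an arbitrary base: flat quotients by all powers of a proper ideal force flatness. -/
theorem flat_of_forall_pow {A B : Type u} [CommRing A] [CommRing B] [IsNoetherianRing B] [IsLocalRing B]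
    [Algebra A B] (I : Ideal B) (hI : I ≠ ⊤) (h : ∀ n : ℕ, Module.Flat A (B ⧸ I ^ n)) : Module.Flat A B := by
  rw [Module.Flat.iff_lTensor_injective]
  intro J hJ
  haveI : Module.Finite A J := Module.Finite.of_fg hJ
  rw [injective_iff_map_eq_zero]
  intro z hz
  rw [← Submodule.mem_bot B, ← Ideal.iInf_pow_smul_eq_bot_of_le_jacobson (M := B ⊗[A] J) I
    ((IsLocalRing.le_maximalIdeal hI).trans (IsLocalRing.maximalIdeal_le_jacobson _)), Submodule.mem_iInf]
  intro n
  refine CAlgLib.FlatCrit.mem_smul_of_flat J (I ^ n) ?_ z hz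
  haveI := h n
  exact Module.Flat.of_linearEquiv ((Submodule.quotEquivOfEq _ _
    (show (I ^ n • (⊤ : Submodule B B)) = (I ^ n : Ideal B) by rw [smul_eq_mul, Ideal.mul_top])).restrictScalars A)

/-- A noetherian local algebra is flat if its quotient by a quasi-regular sequence is. -/
theorem flat_of_quasiRegular {A B : Type u} [CommRing A] [CommRing B] [IsNoetherianRing B] [IsLocalRing B]
    [Algebra A B] {c : ℕ} (f : Fin c → B) (hq : CAlgX.IsQuasiRegular f)
    (hne : Ideal.span (Set.range f) ≠ ⊤) [Module.Flat A (B ⧸ Ideal.span (Set.range f))] : Module.Flat A B :=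
  flat_of_forall_pow _ hne (CAlg48.QRBase.flat_quotient_pow f A hq)

/-- The ring map form. -/
theorem flat_of_ker {A B C : Type u} [CommRing A] [CommRing B] [CommRing C] [IsNoetherianRing B] [IsLocalRing B]
    [Nontrivial C] (φ : A →+* B) (π : B →+* C) (hπ : Surjective π) {c : ℕ} (f : Fin c → B)
    (hq : CAlgX.IsQuasiRegular f) (hspan : Ideal.span (Set.range f) = RingHom.ker π) (hfl : (π.comp φ).Flat) :
    φ.Flat := by
  letI := φ.toAlgebra
  letI : Algebra A C := (π.comp φ).toAlgebra
  haveI : Module.Flat A C := hfl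
  let e : B →ₐ[A] C := { π with commutes' := fun _ => rfl }
  haveI : Module.Flat A (B ⧸ Ideal.span (Set.range f)) :=
    Module.Flat.of_linearEquiv ((Ideal.quotientEquivAlgOfEq A hspan).trans
      (Ideal.quotientKerAlgEquivOfSurjective (f := e) hπ)).toLinearEquiv
  exact flat_of_quasiRegular f hq (hspan ▸ RingHom.ker_ne_top _)

/-- The ambient morphism is flat at the points of a relative quasi-regular immersion with noetherian local ring. -/
theorem flat_stalkMap {Z X S : Scheme.{u}} (f : X ⟶ S) (i : Z ⟶ X)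
    (hi : RegImm.IsRelRegularImmersion RegImm.Kind.quasi f i) (z : ↥Z)
    [IsNoetherianRing ↑(X.presheaf.stalk (i z))] : (f.stalkMap (i z)).hom.Flat := by
  haveI : IsImmersion i := hi.1.1
  haveI : Flat (i ≫ f) := hi.2
  obtain ⟨U, hz, hcl, rs, hrs, hker⟩ := hi.1.2 z
  haveI := hcl
  let ψ := (X.presheaf.germ U.1 (i z) hz).hom
  have hk : RingHom.ker (i.stalkMap z).hom = Ideal.ofList (rs.map ψ) := by
    rw [RegImm38.ker_stalkMap_eq_map i U.2 z hz, hker, Ideal.map_ofList]
  have hne : Ideal.ofList (rs.map ψ) ≠ ⊤ := hk ▸ RingHom.ker_ne_top _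
  have hψ : ψ.Flat := by
    letI : Algebra Γ(X, U.1) (X.presheaf.stalk (i z)) := ψ.toAlgebra
    haveI : IsLocalization.AtPrime (X.presheaf.stalk (i z)) (U.2.primeIdealOf ⟨i z, hz⟩).asIdeal :=
      U.2.isLocalization_stalk ⟨i z, hz⟩
    exact IsLocalization.flat _ (U.2.primeIdealOf ⟨i z, hz⟩).asIdeal.primeCompl
  have hq : CAlgX.IsQuasiRegular (rs.map ψ).get :=
    RegImm38.seq_map_flat RegImm.Kind.quasi ψ hψ hrs hne
  have hspan : Ideal.span (Set.range (rs.map ψ).get) = RingHom.ker (i.stalkMap z).hom := by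
    rw [hk, Ideal.ofList, Set.range_list_get]
  refine flat_of_ker (f.stalkMap (i z)).hom (i.stalkMap z).hom (i.stalkMap_surjective z) _ hq hspan ?_
  have := Flat.stalkMap (i ≫ f) z
  rw [Scheme.Hom.stalkMap_comp] at this
  exact this

end Groth.Agent.RelQR38.FlatCrit
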